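import Groth.Agent.InertiaEtale.Main

/-!
# Invariants under a subgroup containing the decomposition group
-/

universe u

set_option autoImplicit false
set_option linter.style.haveILetI false

namespace Groth.Agent.InertiaEtale

variable {G R : Type u} [Group G] [Finite G] [CommRing R] [MulSemiringAction G R]
  (q : Ideal R) [q.IsPrime] (H : Subgroup G)

/-- An `H`-invariant element outside `q` all of whose other conjugates lie in `q`. -/
theorem exists_c (hD : ∀ τ : G, (∀ y, τ • y ∈ q ↔ y ∈ q) → τ ∈ H) :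
    ∃ c : R, (∀ h ∈ H, h • c = c) ∧ c ∉ q ∧ ∀ σ ∉ H, σ • c ∈ q := by
  classical
  haveI := Fintype.ofFinite G
  haveI := Fintype.ofFinite H
  have hx : ∀ τ : G, ∃ x : R, (∀ h : H, (h : G) • x ∉ q) ∧ (τ ∉ H → τ • x ∈ q) := by
    intro τ
    by_cases hτ : τ ∈ H
    · refine ⟨1, fun h h1 => ‹q.IsPrime›.ne_top ((Ideal.eq_top_iff_one q).2 ?_), fun h' => (h' hτ).elim⟩
      rwa [smul_one] at h1
    · by_contra hne
      simp only [not_exists, not_and, not_not, not_forall] at hne
      have hsub : ((q.comap (MulSemiringAction.toRingHom G R τ) : Ideal R) : Set R) ⊆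
          ⋃ h ∈ ((Finset.univ : Finset H) : Set H),
            (q.comap (MulSemiringAction.toRingHom G R (h : G)) : Set R) := by
        intro y hy
        have hy' : τ • y ∈ q := hy
        obtain ⟨h, hh⟩ : ∃ h : H, (h : G) • y ∈ q := by
          by_contra hall
          simp only [not_exists] at hall
          exact (hne y hall).2 hy'
        exact Set.mem_biUnion (Finset.mem_univ h) hh
      obtain ⟨h, -, hle⟩ := (Ideal.subset_union_prime (s := (Finset.univ : Finset H))
        (f := fun h => q.comap (MulSemiringAction.toRingHom G R (h : G))) 1 1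
        (fun i _ _ _ => Ideal.IsPrime.comap _)).1 hsub
      have hmem : ∀ z ∈ q, ((h : G) * τ⁻¹) • z ∈ q := fun z hz => by
        rw [mul_smul]
        refine hle ?_
        show τ • τ⁻¹ • z ∈ q
        rwa [smul_inv_smul]
      have h1 := hD _ (iff_of_forall_imp q hmem)
      exact hτ (inv_mem_iff.1 ((mul_mem_cancel_left h.2).1 h1))
  choose x hxq hxτ using hx
  let c0 := ∏ τ : G, x τ
  refine ⟨∏ h : H, h • c0, fun j hj => ?_, fun hmem => ?_, fun σ hσ => ?_⟩
  · show (⟨j, hj⟩ : H) • (∏ h : H, h • c0) = _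
    rw [Finset.smul_prod']
    exact Fintype.prod_equiv (Equiv.mulLeft (⟨j, hj⟩ : H)) _ _ fun i => by simp [mul_smul]
  · rw [Ideal.IsPrime.prod_mem_iff] at hmem
    obtain ⟨h, -, hh⟩ := hmem
    rw [Finset.smul_prod', Ideal.IsPrime.prod_mem_iff] at hh
    obtain ⟨τ, -, hτ⟩ := hh
    exact hxq τ h hτ
  · rw [Finset.smul_prod']
    refine q.mem_of_dvd (Finset.dvd_prod_of_mem _ (Finset.mem_univ 1)) ?_
    rw [one_smul, Finset.smul_prod']
    exact q.mem_of_dvd (Finset.dvd_prod_of_mem _ (Finset.mem_univ σ)) (hxτ σ hσ)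

/-- Étaleness and trivial residue extension for invariants under `H`. -/
theorem etale_and_residue (hD : ∀ τ : G, (∀ y, τ • y ∈ q ↔ y ∈ q) → τ ∈ H) :
    (∃ g : FixedPoints.subring R H,
      g ∉ q.comap (FixedPoints.subring R H).subtype ∧
      Algebra.Etale (FixedPoints.subring R G) (Localization.Away g)) ∧
    ∃ c : FixedPoints.subring R H, (c : R) ∉ q ∧ ∀ s : FixedPoints.subring R H,
      ∃ a : FixedPoints.subring R G, (a : R) - (s : R) * c ∈ q := by
  classical
  obtain ⟨c, hcH, hcq, hc⟩ := exists_c q H hD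
  refine ⟨etale_of_separating q H c hcH fun σ hσ h => hcq (by simpa using q.sub_mem (hc σ hσ) h),
    ⟨c, fun h => hcH h.1 h.2⟩, hcq, fun s => ?_⟩
  haveI := Fintype.ofFinite (G ⧸ H)
  let y : R := (s : R) * c
  have hy : ∀ h ∈ H, h • y = y := fun h hh => by
    show h • ((s : R) * c) = _
    rw [smul_mul', hcH h hh]
    exact congrArg (· * c) (s.2 ⟨h, hh⟩)
  let orb : G ⧸ H → R := Quotient.lift (fun σ : G => σ • y) fun σ τ h => by
    have hmem : σ⁻¹ * τ ∈ H := QuotientGroup.leftRel_apply.1 h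
    calc σ • y = σ • ((σ⁻¹ * τ) • y) := by rw [hy _ hmem]
      _ = τ • y := by rw [← mul_smul, mul_inv_cancel_left]
  refine ⟨⟨∑ d, orb d, fun τ => ?_⟩, ?_⟩
  · rw [Finset.smul_sum]
    refine Fintype.sum_equiv (MulAction.toPerm τ) _ _ fun d => ?_
    induction d using QuotientGroup.induction_on with
    | H σ => exact (mul_smul τ σ y).symm
  · show (∑ d, orb d) - y ∈ q
    rw [← Finset.add_sum_erase _ _ (Finset.mem_univ ((1 : G) : G ⧸ H)),
      show orb ((1 : G) : G ⧸ H) = y from one_smul G y, add_sub_cancel_left]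
    refine sum_mem fun d hd => ?_
    obtain ⟨σ, rfl⟩ := QuotientGroup.mk_surjective d
    show σ • ((s : R) * c) ∈ q
    rw [smul_mul']
    refine q.mul_mem_left _ (hc σ fun hσ => (Finset.mem_erase.1 hd).1 (QuotientGroup.eq.2 ?_))
    simpa using inv_mem hσ

end Groth.Agent.InertiaEtale
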