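import Groth.Agent.InertiaEtale.Separate
import Groth.Prelude.Def_Pi1
import Mathlib.RingTheory.Etale.StandardEtale
import Mathlib.Algebra.Polynomial.Derivative

/-!
# Inertia invariants are étale over invariants
-/

universe u

open Polynomial

set_option autoImplicit false
set_option linter.style.haveILetI false

namespace Groth.Agent.InertiaEtale

variable {G R : Type u} [Group G] [Finite G] [CommRing R] [MulSemiringAction G R]

/-- The interpolation identity. -/
lemma dvd_derivative_mul_sub {ι : Type*} [Fintype ι] [DecidableEq ι] (f : ι → R) (H : R[X]) :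
    (∏ c, (X - C (f c))) ∣ derivative (∏ c, (X - C (f c))) * H -
      ∑ c, C (H.eval (f c)) * ∏ d ∈ Finset.univ.erase c, (X - C (f d)) := by
  rw [Polynomial.derivative_prod_finset, Finset.sum_mul, ← Finset.sum_sub_distrib]
  refine Finset.dvd_sum fun c _ => ?_
  rw [derivative_X_sub_C, mul_one, mul_comm (C _), ← mul_sub]
  obtain ⟨Q, hQ⟩ := Polynomial.X_sub_C_dvd_sub_C_eval (a := f c) (p := H)
  refine ⟨Q, ?_⟩
  rw [hQ, ← mul_assoc, Finset.prod_erase_mul _ _ (Finset.mem_univ c)]

variable (q : Ideal R) [q.IsPrime]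

theorem etale_of_separating (Hs : Subgroup G) (θ₀ : R) (hθI : ∀ i ∈ Hs, i • θ₀ = θ₀)
    (hθ : ∀ σ ∉ Hs, σ • θ₀ - θ₀ ∉ q) :
    ∃ g : FixedPoints.subring R Hs,
      g ∉ q.comap (FixedPoints.subring R Hs).subtype ∧
      Algebra.Etale (FixedPoints.subring R G) (Localization.Away g) := by
  classical
  haveI := Fintype.ofFinite (G ⧸ Hs)
  haveI : Nontrivial R := nontrivial_of_ne (0 : R) 1 fun h =>
    ‹q.IsPrime›.ne_top ((Ideal.eq_top_iff_one q).2 (h ▸ q.zero_mem))
  let A := FixedPoints.subring R G
  let S := FixedPoints.subring R Hs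
  let θ : S := ⟨θ₀, fun i => hθI i.1 i.2⟩
  let orb : S → G ⧸ Hs → R := fun a =>
    Quotient.lift (fun σ : G => σ • (a : R)) fun σ τ h => by
      have hmem : σ⁻¹ * τ ∈ Hs := QuotientGroup.leftRel_apply.1 h
      have h1 : (σ⁻¹ * τ) • (a : R) = a := a.2 ⟨_, hmem⟩
      calc σ • (a : R) = σ • ((σ⁻¹ * τ) • (a : R)) := by rw [h1]
        _ = τ • (a : R) := by rw [← mul_smul, mul_inv_cancel_left]
  have horb : ∀ (a : S) (σ : G), orb a (σ : G ⧸ Hs) = σ • (a : R) := fun a σ => rfl
  have hsmul : ∀ (a : S) (τ : G) (c : G ⧸ Hs), τ • orb a c = orb a (τ • c) := by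
    intro a τ c
    induction c using QuotientGroup.induction_on with
    | H σ => rw [horb, ← mul_smul]; rfl
  let f := orb θ
  let one : G ⧸ Hs := ((1 : G) : G ⧸ Hs)
  have hone : ∀ a : S, orb a one = a := fun a => one_smul G _
  let E : G ⧸ Hs → R[X] := fun c => ∏ d ∈ Finset.univ.erase c, (X - C (f d))
  let P : R[X] := ∏ c, (X - C (f c))
  have hE : ∀ (τ : G) c, τ • E c = E (τ • c) := by
    intro τ c
    rw [Finset.smul_prod']
    refine Finset.prod_bij' (fun d _ => τ • d) (fun d _ => τ⁻¹ • d) ?_ ?_ ?_ ?_ ?_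
    · intro d hd
      simp only [Finset.mem_erase, Finset.mem_univ, and_true] at hd ⊢
      exact fun h => hd (MulAction.injective τ h)
    · intro d hd
      simp only [Finset.mem_erase, Finset.mem_univ, and_true] at hd ⊢
      exact fun h => hd (by rw [← h, smul_inv_smul])
    · exact fun d _ => inv_smul_smul τ d
    · exact fun d _ => smul_inv_smul τ d
    · intro d _
      rw [smul_sub, Polynomial.smul_X, Polynomial.smul_C, hsmul]
  have hPinv : ∀ τ : G, τ • P = P := by
    intro τ
    rw [Finset.smul_prod']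
    refine Fintype.prod_equiv (MulAction.toPerm τ) _ _ fun d => ?_
    rw [smul_sub, Polynomial.smul_X, Polynomial.smul_C, hsmul]
    rfl
  let ιA : A →+* R := A.subtype
  have hinjA : Function.Injective ιA := Subtype.val_injective
  have hlift : ∀ Q : R[X], (∀ τ : G, τ • Q = Q) → Q ∈ Polynomial.lifts ιA := by
    intro Q hQ
    rw [Polynomial.lifts_iff_coeff_lifts]
    intro n
    refine ⟨⟨Q.coeff n, fun τ => ?_⟩, rfl⟩
    rw [← Polynomial.coeff_smul, hQ]
  obtain ⟨PA, hPA, -, hPAm⟩ := Polynomial.lifts_and_degree_eq_and_monic (hlift P hPinv)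
    (Polynomial.monic_prod_of_monic _ _ fun c _ => Polynomial.monic_X_sub_C _)
  have hev : ∀ (H : A[X]) (a : S), ((aeval a H : S) : R) = (H.map ιA).eval (a : R) := by
    intro H a
    rw [Polynomial.eval_map]
    exact Polynomial.hom_eval₂ H (algebraMap A S) S.subtype a
  have hf1 : f one = θ₀ := hone θ
  have hEne : ∀ c, c ≠ one → (E c).eval θ₀ = 0 := by
    intro c hc
    rw [Polynomial.eval_prod]
    refine Finset.prod_eq_zero (Finset.mem_erase.2 ⟨fun h => hc h.symm, Finset.mem_univ one⟩) ?_
    rw [eval_sub, eval_X, eval_C, hf1, sub_self]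
  have hder : (derivative P).eval θ₀ = (E one).eval θ₀ := by
    rw [Polynomial.derivative_prod_finset, eval_finsetSum, Finset.sum_eq_single one]
    · rw [derivative_X_sub_C, mul_one]
    · intro c _ hc
      rw [derivative_X_sub_C, mul_one]
      exact hEne c hc
    · exact fun h => absurd (Finset.mem_univ one) h
  let g : S := aeval θ (derivative PA)
  have hg : (g : R) = (E one).eval θ₀ := by
    rw [hev, ← Polynomial.derivative_map, hPA]
    exact hder
  have hgq : g ∉ q.comap S.subtype := by
    intro h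
    have h' : (g : R) ∈ q := h
    rw [hg, Polynomial.eval_prod, Ideal.IsPrime.prod_mem_iff] at h'
    obtain ⟨c, hc, hmem⟩ := h'
    rw [eval_sub, eval_X, eval_C] at hmem
    obtain ⟨σ, rfl⟩ := QuotientGroup.mk_surjective c
    refine hθ σ (fun hσ => ?_) (by simpa [f, horb] using q.neg_mem hmem)
    refine (Finset.mem_erase.1 hc).1 (QuotientGroup.eq.2 ?_)
    simpa using inv_mem hσ
  refine ⟨g, hgq, ?_⟩
  let pair : StandardEtalePair A := ⟨PA, hPAm, derivative PA, ⟨1, 0, 1, by simp⟩⟩
  let Sg := Localization.Away g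
  let θ' : Sg := algebraMap S Sg θ
  have hAθ : aeval θ PA = 0 := by
    apply Subtype.val_injective
    rw [hev, hPA, Polynomial.eval_prod]
    refine Finset.prod_eq_zero (Finset.mem_univ one) ?_
    rw [eval_sub, eval_X, eval_C, hf1]
    exact sub_self _
  have haev : ∀ H : A[X], aeval θ' H = algebraMap S Sg (aeval θ H) := fun H =>
    aeval_algebraMap_apply Sg θ H
  have hmap : pair.HasMap θ' := by
    refine ⟨?_, ?_⟩
    · rw [haev, hAθ, map_zero]
    · rw [haev]
      exact IsLocalization.Away.algebraMap_isUnit g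
  let φ := pair.lift θ' hmap
  have hφ : ∀ H : A[X], φ (aeval pair.X H) = algebraMap S Sg (aeval θ H) := by
    intro H
    rw [← Polynomial.aeval_algHom_apply, StandardEtalePair.lift_X, haev]
  have hφg : φ (aeval pair.X pair.g) = algebraMap S Sg g := hφ _
  obtain ⟨w, hw⟩ := pair.hasMap_X.2
  have hsurjS : ∀ a : S, ∃ z, φ z = algebraMap S Sg a := by
    intro a
    let Q : R[X] := ∑ c, C (orb a c) * E c
    have hQ : ∀ τ : G, τ • Q = Q := by
      intro τ
      rw [Finset.smul_sum]
      refine Fintype.sum_equiv (MulAction.toPerm τ) _ _ fun c => ?_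
      rw [smul_mul', Polynomial.smul_C, hsmul, hE]
      rfl
    obtain ⟨QA, hQA⟩ := Polynomial.mem_lifts _ |>.1 (hlift Q hQ)
    have hval : aeval θ QA = a * g := by
      apply Subtype.val_injective
      rw [hev, hQA, MulMemClass.coe_mul, hg, eval_finsetSum, Finset.sum_eq_single one]
      · rw [eval_mul, eval_C, hone]
      · intro c _ hc
        rw [eval_mul]
        rw [show eval (θ : R) (E c) = 0 from hEne c hc, mul_zero]
      · exact fun h => absurd (Finset.mem_univ one) h
    refine ⟨aeval pair.X QA * ((w⁻¹ : pair.Ringˣ) : pair.Ring), ?_⟩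
    have h2 : φ ((w⁻¹ : pair.Ringˣ) : pair.Ring) * algebraMap S Sg g = 1 := by
      rw [← hφg, ← map_mul, ← hw, Units.inv_mul, map_one]
    rw [map_mul, hφ, hval, map_mul, mul_assoc, mul_comm (algebraMap S Sg g), h2, mul_one]
  have hbij : Function.Bijective φ := by
    refine ⟨(injective_iff_map_eq_zero φ).2 fun z hz => ?_, fun z => ?_⟩
    · -- injectivity
      let e := pair.equivAwayAdjoinRoot
      obtain ⟨⟨h0, ⟨_, n, rfl⟩⟩, hh⟩ := IsLocalization.surj
        (Submonoid.powers (AdjoinRoot.mk pair.f pair.g)) (e z)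
      obtain ⟨H, rfl⟩ := AdjoinRoot.mk_surjective h0
      have he : ∀ H : A[X], e (aeval pair.X H) =
          algebraMap (AdjoinRoot pair.f) (Localization.Away (AdjoinRoot.mk pair.f pair.g))
            (AdjoinRoot.mk pair.f H) := by
        intro H
        have hX : e pair.X = algebraMap (AdjoinRoot pair.f)
            (Localization.Away (AdjoinRoot.mk pair.f pair.g)) (AdjoinRoot.root pair.f) :=
          by simp [e, StandardEtalePair.equivAwayAdjoinRoot]
        rw [show e (aeval pair.X H) = (e : pair.Ring →ₐ[A] _) (aeval pair.X H) from rfl,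
          ← Polynomial.aeval_algHom_apply]
        show aeval (e pair.X) H = _
        rw [hX, aeval_algebraMap_apply, AdjoinRoot.aeval_eq]
      have hzH : z * aeval pair.X pair.g ^ n = aeval pair.X H := by
        apply e.injective
        rw [map_mul, map_pow, he, he, ← map_pow]
        exact hh
      have h1 : algebraMap S Sg (aeval θ H) = 0 := by
        rw [← hφ, ← hzH, map_mul, hz, zero_mul]
      obtain ⟨⟨_, m, rfl⟩, hm⟩ := (IsLocalization.map_eq_zero_iff (Submonoid.powers g) Sg _).1 h1
      let H' : A[X] := derivative PA ^ m * H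
      have hH' : aeval θ H' = 0 := by
        rw [map_mul, map_pow]
        exact hm
      have hroot : ∀ c, (H'.map ιA).eval (f c) = 0 := by
        intro c
        obtain ⟨σ, rfl⟩ := QuotientGroup.mk_surjective c
        have hfix : σ • (H'.map ιA) = H'.map ιA := by
          ext n
          rw [Polynomial.coeff_smul, Polynomial.coeff_map]
          exact (H'.coeff n).2 σ
        show (H'.map ιA).eval (σ • θ₀) = 0
        rw [← hfix, Polynomial.smul_eval_smul, ← show ((θ : S) : R) = θ₀ from rfl, ← hev, hH',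
          ZeroMemClass.coe_zero, smul_zero]
      have hdvd : P ∣ derivative P * H'.map ιA := by
        have := dvd_derivative_mul_sub f (H'.map ιA)
        simpa only [hroot, map_zero, zero_mul, Finset.sum_const_zero, sub_zero] using this
      rw [← hPA, Polynomial.derivative_map, ← Polynomial.map_mul,
        Polynomial.map_dvd_map ιA hinjA hPAm] at hdvd
      obtain ⟨T, hT⟩ := hdvd
      have h2 : aeval pair.X (derivative PA * H') = 0 := by
        rw [hT, map_mul, show aeval pair.X PA = 0 from pair.hasMap_X.1, zero_mul]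
      rw [map_mul, map_mul, map_pow, ← hzH, show aeval pair.X (derivative PA) = aeval pair.X pair.g from rfl,
        ← hw, mul_comm z, ← mul_assoc, ← mul_assoc, ← pow_succ', ← pow_add, ← Units.val_pow_eq_pow_val,
        Units.mul_right_eq_zero] at h2
      exact h2
    · -- surjectivity
      obtain ⟨⟨a, ⟨_, n, rfl⟩⟩, ha⟩ := IsLocalization.surj (Submonoid.powers g) z
      obtain ⟨y, hy⟩ := hsurjS a
      refine ⟨y * ((w⁻¹ ^ n : pair.Ringˣ) : pair.Ring), ?_⟩
      have h2 : φ ((w⁻¹ : pair.Ringˣ) : pair.Ring) * algebraMap S Sg g = 1 := by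
        rw [← hφg, ← map_mul, ← hw, Units.inv_mul, map_one]
      rw [map_mul, hy, ← ha, map_pow, Units.val_pow_eq_pow_val, map_pow, mul_assoc, ← mul_pow,
        mul_comm (algebraMap S Sg g), h2, one_pow, mul_one]
  exact Algebra.Etale.of_equiv (AlgEquiv.ofBijective φ hbij)

theorem main :
    ∃ g : FixedPoints.subring R (q.inertia G),
      g ∉ q.comap (FixedPoints.subring R (q.inertia G)).subtype ∧
      Algebra.Etale (FixedPoints.subring R G) (Localization.Away g) := by
  obtain ⟨θ₀, hθI, hθ⟩ := exists_theta (G := G) q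
  exact etale_of_separating q _ θ₀ hθI hθ

end Groth.Agent.InertiaEtale
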