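import Mathlib.RingTheory.Invariant.Basic
import Mathlib.RingTheory.IntegralDomain
import Mathlib.Algebra.Polynomial.Roots

/-!
# An inertia-invariant element separating conjugates modulo a prime
-/

universe u

open Polynomial

set_option autoImplicit false

namespace Groth.Agent.InertiaEtale

variable {G R : Type u} [Group G] [Finite G] [CommRing R] [MulSemiringAction G R]
  (q : Ideal R) [q.IsPrime]

omit [Finite G] [q.IsPrime] in
lemma inertia_mem_iff {i : G} (hi : i ∈ q.inertia G) (x : R) : i • x ∈ q ↔ x ∈ q := by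
  have h : i • x - x ∈ q := hi x
  exact ⟨fun h' => by simpa using q.sub_mem h' h, fun h' => by simpa using q.add_mem h h'⟩

omit [q.IsPrime] in
/-- Conjugates of an ideal by a finite group are incomparable. -/
lemma iff_of_forall_imp {τ : G} (h : ∀ x ∈ q, τ • x ∈ q) (x : R) : τ • x ∈ q ↔ x ∈ q := by
  refine ⟨fun hx => ?_, h x⟩
  have hn : ∀ (n : ℕ) (y : R), y ∈ q → (τ ^ n) • y ∈ q := by
    intro n
    induction n with
    | zero => intro y hy; simpa using hy
    | succ n ih => intro y hy; rw [pow_succ', mul_smul]; exact h _ (ih y hy)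
  have h2 := hn (orderOf τ - 1) _ hx
  rwa [← mul_smul, ← pow_succ, Nat.sub_add_cancel (orderOf_pos τ), pow_orderOf_eq_one, one_smul] at h2

omit [q.IsPrime] in
lemma smul_prod_inertia [Fintype (q.inertia G)] (x : R) (j : q.inertia G) :
    j • (∏ i : q.inertia G, i • x) = ∏ i : q.inertia G, i • x := by
  rw [Finset.smul_prod']
  exact Fintype.prod_equiv (Equiv.mulLeft j) _ _ fun i => by simp [mul_smul]

/-- Each element outside inertia moves some inertia invariant modulo `q`. -/
theorem exists_sep {σ : G} (hσ : σ ∉ q.inertia G) :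
    ∃ s : R, (∀ i ∈ q.inertia G, i • s = s) ∧ σ • s - s ∉ q := by
  classical
  haveI := Fintype.ofFinite (q.inertia G)
  by_cases hq : ∀ x, σ • x ∈ q ↔ x ∈ q
  · obtain ⟨x, hx⟩ : ∃ x, σ • x - x ∉ q := by
      by_contra h
      exact hσ fun x => not_not.1 fun h' => h ⟨x, h'⟩
    by_contra hall
    let mq := Ideal.Quotient.mk q
    let P : R[X] := ∏ i : q.inertia G, (Polynomial.X - Polynomial.C (i • x))
    have hP : ∀ j ∈ q.inertia G, ∀ k, j • P.coeff k = P.coeff k := by
      intro j hj k
      rw [← Polynomial.coeff_smul]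
      congr 1
      rw [Finset.smul_prod']
      exact Fintype.prod_equiv (Equiv.mulLeft (⟨j, hj⟩ : q.inertia G)) _ _ fun i => by
        rw [smul_sub, Polynomial.smul_X, Polynomial.smul_C]
        show _ = Polynomial.X - Polynomial.C (((⟨j, hj⟩ : q.inertia G) * i) • x)
        rw [mul_smul]
        rfl
    have heq : (σ • P).map mq = P.map mq := by
      ext k
      rw [Polynomial.coeff_map, Polynomial.coeff_map, Polynomial.coeff_smul, Ideal.Quotient.eq]
      exact not_not.1 fun h => hall ⟨P.coeff k, fun i hi => hP i hi k, h⟩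
    have h1 : P.map mq = (Polynomial.X - Polynomial.C (mq x)) ^ Fintype.card (q.inertia G) := by
      rw [Polynomial.map_prod, ← Finset.card_univ, ← Finset.prod_const]
      refine Finset.prod_congr rfl fun i _ => ?_
      rw [Polynomial.map_sub, Polynomial.map_X, Polynomial.map_C,
        Ideal.Quotient.eq.2 (show i • x - x ∈ q from i.2 x)]
    have h2 : (σ • P).map mq = (Polynomial.X - Polynomial.C (mq (σ • x))) ^ Fintype.card (q.inertia G) := by
      rw [Finset.smul_prod', Polynomial.map_prod, ← Finset.card_univ, ← Finset.prod_const]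
      refine Finset.prod_congr rfl fun i _ => ?_
      rw [smul_sub, Polynomial.smul_X, Polynomial.smul_C, Polynomial.map_sub, Polynomial.map_X,
        Polynomial.map_C]
      congr 2
      rw [Ideal.Quotient.eq, ← smul_sub, hq]
      exact i.2 x
    have h3 := congrArg (Polynomial.eval (mq x)) ((h2.symm.trans heq).trans h1)
    simp only [Polynomial.eval_pow, Polynomial.eval_sub, Polynomial.eval_X, Polynomial.eval_C,
      sub_self, zero_pow Fintype.card_ne_zero] at h3
    rw [← map_sub, ← map_pow, Ideal.Quotient.eq_zero_iff_mem] at h3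
    refine hx ?_
    have := Ideal.IsPrime.mem_of_pow_mem ‹q.IsPrime› _ h3
    simpa using q.neg_mem this
  · obtain ⟨x, hxq, hx⟩ : ∃ x ∈ q, ∀ i : q.inertia G, σ • i • x ∉ q := by
      by_contra h
      simp only [not_exists, not_and, not_forall, not_not] at h
      have hsub : (q : Set R) ⊆ ⋃ i ∈ ((Finset.univ : Finset (q.inertia G)) : Set (q.inertia G)),
          (q.comap (MulSemiringAction.toRingHom G R (σ * i.1)) : Set R) := by
        intro y hy
        obtain ⟨i, hi⟩ := h y hy
        refine Set.mem_biUnion (Finset.mem_univ i) ?_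
        show (σ * i.1) • y ∈ q
        rwa [mul_smul]
      obtain ⟨i, -, hle⟩ := (Ideal.subset_union_prime (s := (Finset.univ : Finset (q.inertia G)))
        (f := fun i => q.comap (MulSemiringAction.toRingHom G R (σ * i.1))) 1 1
        (fun i _ _ _ => Ideal.IsPrime.comap _)).1 hsub
      refine hq fun y => ?_
      have := iff_of_forall_imp q (τ := σ * i.1) (fun z hz => hle hz) (i.1⁻¹ • y)
      rw [mul_smul, smul_inv_smul] at this
      rw [this]
      exact inertia_mem_iff q (inv_mem i.2) y
    refine ⟨∏ i : q.inertia G, i • x, fun j hj => smul_prod_inertia q x ⟨j, hj⟩, fun hmem => ?_⟩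
    have h1 : (∏ i : q.inertia G, i • x) ∈ q :=
      q.mem_of_dvd (Finset.dvd_prod_of_mem _ (Finset.mem_univ 1)) (by simpa using hxq)
    have h2 := q.add_mem hmem h1
    rw [sub_add_cancel, Finset.smul_prod', Ideal.IsPrime.prod_mem_iff] at h2
    obtain ⟨i, -, hi⟩ := h2
    exact hx i hi

/-- One inertia invariant separating all conjugates modulo `q`. -/
theorem exists_theta :
    ∃ θ : R, (∀ i ∈ q.inertia G, i • θ = θ) ∧ ∀ σ ∉ q.inertia G, σ • θ - θ ∉ q := by
  classical
  haveI := Fintype.ofFinite G
  let mq := Ideal.Quotient.mk q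
  let B := {σ : G // σ ∉ q.inertia G}
  choose s hs hsep using fun σ : B => exists_sep q σ.2
  let Abar : Set (R ⧸ q) := mq '' {t : R | ∀ σ : G, σ • t = t}
  rcases Abar.finite_or_infinite with hfin | hinf
  · -- finite case
    haveI : Finite Abar := hfin
    haveI : Finite (R ⧸ q) := by
      let N := Fintype.card G + 1
      let pol : (Fin N → Abar) → (R ⧸ q)[X] := fun c => ∑ k : Fin N, Polynomial.monomial (k : ℕ) (c k).1
      have hcov : (Set.univ : Set (R ⧸ q)) ⊆
          ⋃ c : Fin N → Abar, ((pol c).roots.toFinset : Set (R ⧸ q)) := by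
        intro z _
        obtain ⟨x, rfl⟩ := Ideal.Quotient.mk_surjective z
        let P := MulSemiringAction.charpoly G x
        have hm : P.Monic := MulSemiringAction.monic_charpoly G x
        have hdeg : P.natDegree < N := by
          have : P.natDegree ≤ ∑ g : G, (Polynomial.X - Polynomial.C (g • x)).natDegree := by
            rw [show P = ∏ g : G, (Polynomial.X - Polynomial.C (g • x)) from MulSemiringAction.charpoly_eq G x]
            exact Polynomial.natDegree_prod_le _ _
          have h1 : ∑ g : G, (Polynomial.X - Polynomial.C (g • x)).natDegree ≤ ∑ _g : G, 1 :=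
            Finset.sum_le_sum fun g _ => Polynomial.natDegree_X_sub_C_le _
          simp only [Finset.sum_const, Finset.card_univ, smul_eq_mul, mul_one] at h1
          omega
        let c : Fin N → Abar := fun k =>
          ⟨mq (P.coeff k), P.coeff k, fun g => MulSemiringAction.smul_coeff_charpoly x _ g, rfl⟩
        have hc : pol c = P.map mq := by
          ext n
          rw [Polynomial.finsetSum_coeff, Polynomial.coeff_map]
          simp only [Polynomial.coeff_monomial]
          by_cases hn : n < N
          · rw [Finset.sum_eq_single (⟨n, hn⟩ : Fin N)]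
            · simp [c]
            · intro k _ hk
              rw [if_neg]
              exact fun h => hk (Fin.ext h)
            · simp
          · rw [Polynomial.coeff_eq_zero_of_natDegree_lt (by omega), map_zero]
            refine Finset.sum_eq_zero fun k _ => ?_
            rw [if_neg]
            intro h
            exact hn (h ▸ k.2)
        refine Set.mem_iUnion.2 ⟨c, ?_⟩
        rw [Finset.mem_coe, Multiset.mem_toFinset, Polynomial.mem_roots', hc]
        refine ⟨(hm.map mq).ne_zero, ?_⟩
        rw [Polynomial.IsRoot, Polynomial.eval_map, Polynomial.eval₂_at_apply,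
          MulSemiringAction.eval_charpoly, map_zero]
      exact Set.finite_univ_iff.1 ((Set.finite_iUnion fun c => Finset.finite_toSet _).subset hcov)
    let S : Subring R := FixedPoints.subring R (q.inertia G)
    have hS : ∀ {r : R}, r ∈ S ↔ ∀ i ∈ q.inertia G, i • r = r := fun {r} =>
      ⟨fun h i hi => h ⟨i, hi⟩, fun h i => h i.1 i.2⟩
    let Sb : Subring (R ⧸ q) := S.map mq
    haveI : Finite Sb := Subtype.finite
    obtain ⟨u, hu⟩ := IsCyclic.exists_generator (α := Sbˣ)
    obtain ⟨g, hg, hgu⟩ : ∃ g ∈ S, mq g = ((u : Sb) : R ⧸ q) := Subring.mem_map.1 (u : Sb).2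
    -- separator from the other conjugates
    have hx : ∀ τ : G, ∃ x : R, x ∉ q ∧ ((¬ ∀ y, τ • y ∈ q ↔ y ∈ q) → τ • x ∈ q) := by
      intro τ
      by_cases h : ∀ y, τ • y ∈ q ↔ y ∈ q
      · exact ⟨1, fun h1 => ‹q.IsPrime›.ne_top ((Ideal.eq_top_iff_one q).2 h1), fun h' => (h' h).elim⟩
      · obtain ⟨y, hy1, hy2⟩ : ∃ y, τ • y ∈ q ∧ y ∉ q := by
          by_contra h'
          simp only [not_exists, not_and, not_not] at h'
          refine h fun y => ?_
          have := iff_of_forall_imp q (τ := τ⁻¹) (fun z hz => h' _ (by rwa [smul_inv_smul])) (τ • y)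
          rw [inv_smul_smul] at this
          exact this.symm
        exact ⟨y, hy2, fun _ => hy1⟩
    choose x hxq hxτ using hx
    haveI := Fintype.ofFinite (q.inertia G)
    let c0 := ∏ τ : G, x τ
    have hc0 : c0 ∉ q := fun h => by
      rw [Ideal.IsPrime.prod_mem_iff] at h
      obtain ⟨τ, -, hτ⟩ := h
      exact hxq τ hτ
    let c := ∏ i : q.inertia G, i • c0
    have hcS : c ∈ S := fun j => smul_prod_inertia q c0 j
    have hcq : c ∉ q := fun h => by
      rw [Ideal.IsPrime.prod_mem_iff] at h
      obtain ⟨i, -, hi⟩ := h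
      exact hc0 ((inertia_mem_iff q i.2 c0).1 hi)
    have hcτ : ∀ τ : G, (¬ ∀ y, τ • y ∈ q ↔ y ∈ q) → τ • c ∈ q := fun τ hτ => by
      rw [Finset.smul_prod']
      refine q.mem_of_dvd (Finset.dvd_prod_of_mem _ (Finset.mem_univ 1)) ?_
      rw [one_smul, Finset.smul_prod']
      exact q.mem_of_dvd (Finset.dvd_prod_of_mem _ (Finset.mem_univ τ)) (hxτ τ hτ)
    letI : Field (R ⧸ q) := (Finite.isField_of_domain (R ⧸ q)).toField
    let cu : (R ⧸ q)ˣ := Units.mk0 (mq c) fun h => hcq (Ideal.Quotient.eq_zero_iff_mem.1 h)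
    let θ := g * c ^ orderOf cu
    have hn : orderOf cu ≠ 0 := (orderOf_pos cu).ne'
    have hθg : mq θ = mq g := by
      have h1 : mq c ^ orderOf cu = 1 := by
        have := congrArg Units.val (pow_orderOf_eq_one cu)
        rw [Units.val_pow_eq_pow_val, Units.val_one] at this
        exact this
      rw [map_mul, map_pow, h1, mul_one]
    have hgq : g ∉ q := fun h => by
      have h0 : ((u : Sb) : R ⧸ q) = 0 := hgu.symm.trans (Ideal.Quotient.eq_zero_iff_mem.2 h)
      exact u.ne_zero (Subtype.ext h0)
    refine ⟨θ, hS.1 (mul_mem hg (pow_mem hcS _)), fun σ hσ hmem => ?_⟩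
    have hθq : θ ∉ q := fun h => hgq (Ideal.Quotient.eq_zero_iff_mem.1
      (hθg.symm.trans (Ideal.Quotient.eq_zero_iff_mem.2 h)))
    by_cases hstab : ∀ y, σ • y ∈ q ↔ y ∈ q
    · have hcong : ∀ a b, mq a = mq b → mq (σ • a) = mq (σ • b) := fun a b h => by
        rw [Ideal.Quotient.eq, ← smul_sub, hstab]
        exact Ideal.Quotient.eq.1 h
      have hfix : mq (σ • g) = mq g :=
        ((hcong _ _ hθg).symm.trans (Ideal.Quotient.eq.2 hmem)).trans hθg
      apply hsep ⟨σ, hσ⟩
      let a := s ⟨σ, hσ⟩
      rw [← Ideal.Quotient.eq]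
      by_cases ha : mq a = 0
      · have h0 := hcong a 0 (ha.trans (map_zero _).symm)
        rw [smul_zero, map_zero] at h0
        exact h0.trans ha.symm
      · have haS : a ∈ S := hS.2 (hs _)
        let ab : Sb := ⟨mq a, Subring.mem_map.2 ⟨a, haS, rfl⟩⟩
        haveI : Finite Sbˣ := inferInstance
        letI : Field Sb := (Finite.isField_of_domain Sb).toField
        obtain ⟨k, hk⟩ := (mem_powers_iff_mem_zpowers).2 (hu (Units.mk0 ab fun h => ha (congrArg Subtype.val h)))
        have hk' : mq (g ^ k) = mq a := by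
          rw [map_pow, hgu]
          exact congrArg (fun v : Sbˣ => ((v : Sb) : R ⧸ q)) hk
        calc mq (σ • a) = mq (σ • g ^ k) := hcong _ _ hk'.symm
          _ = mq (σ • g) ^ k := by rw [smul_pow', map_pow]
          _ = mq (g ^ k) := by rw [hfix, map_pow]
          _ = mq a := hk'
    · have h1 : σ • θ ∈ q := by
        rw [smul_mul']
        refine q.mul_mem_left _ ?_
        rw [smul_pow']
        exact q.pow_mem_of_mem (hcτ σ hstab) _ (Nat.pos_of_ne_zero hn)
      exact hθq (by simpa using q.sub_mem h1 hmem)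
  · -- infinite case
    haveI : Fintype B := Fintype.ofFinite B
    let e := Fintype.equivFin B
    let D : B → (R ⧸ q)[X] := fun σ =>
      ∑ τ : B, Polynomial.monomial (e τ : ℕ) (mq (σ.1 • s τ - s τ))
    have hD : ∀ σ, D σ ≠ 0 := fun σ h => by
      have h1 := congrArg (fun p => Polynomial.coeff p (e σ : ℕ)) h
      simp only [D, Polynomial.finsetSum_coeff, Polynomial.coeff_monomial, Polynomial.coeff_zero] at h1
      rw [Finset.sum_eq_single σ (fun τ _ hτ => if_neg fun h => hτ (e.injective (Fin.ext h)))
        (fun h => absurd (Finset.mem_univ σ) h), if_pos rfl, Ideal.Quotient.eq_zero_iff_mem] at h1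
      exact hsep σ h1
    obtain ⟨_, ⟨t, ht, rfl⟩, htD⟩ := hinf.exists_notMem_finset (∏ σ : B, D σ).roots.toFinset
    let θ := ∑ τ : B, t ^ (e τ : ℕ) * s τ
    refine ⟨θ, fun i hi => ?_, fun σ hσ hmem => htD ?_⟩
    · rw [Finset.smul_sum]
      refine Finset.sum_congr rfl fun τ _ => ?_
      rw [smul_mul', smul_pow', ht, hs τ i hi]
    · rw [Multiset.mem_toFinset, Polynomial.mem_roots',
        Finset.prod_ne_zero_iff]
      refine ⟨fun σ _ => hD σ, ?_⟩
      rw [Polynomial.IsRoot, Polynomial.eval_prod]
      refine Finset.prod_eq_zero (Finset.mem_univ ⟨σ, hσ⟩) ?_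
      rw [← Ideal.Quotient.eq_zero_iff_mem] at hmem
      rw [← hmem]
      simp only [D, θ, Polynomial.eval_finsetSum, Polynomial.eval_monomial, Finset.smul_sum,
        ← Finset.sum_sub_distrib, map_sum]
      refine Finset.sum_congr rfl fun τ _ => ?_
      rw [smul_mul', smul_pow', ht, ← mul_sub, map_mul, map_pow, mul_comm]

end Groth.Agent.InertiaEtale
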